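import Cfsg.Agent.H427.Sg.Res
import Cfsg.Agent.H834.O8.Symp
import Cfsg.Agent.H824.ProdLem
import Cfsg.Agent.H16.PSp4.Bridge
import Cfsg.Agent.S5787
import Cfsg.Agent.S5788

/-!
# S3938: `PSp_4(q)`, `q` odd, `q ≥ 5` (helper688)

`s` of order `q ^ 2 + 1` in `Sp_4(q)`; the only maximal overgroup is the normaliser of a quadratic field.
-/

set_option autoImplicit false
set_option linter.unusedSectionVars false

namespace Cfsg.Agent.H688.Sp4

open Module Cfsg Cfsg.Geo Cfsg.Agent.H951 Cfsg.Agent.H427.Fc Cfsg.Agent.H424.Spr Cfsg.Agent.H427.Sg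
open Cfsg.Agent.ClassicalGeometry.SympBasic Cfsg.Agent.H876 Cfsg.Agent.H931 Cfsg.Agent.H262.El
open Cfsg.Agent.H884.El (PP exists_char one_lt_q)
open scoped Matrix MatrixGroups Pointwise

universe u

/-! ### Arithmetic -/

section Arith

variable {k : ℕ}

theorem cop_a : Nat.Coprime (2 * k ^ 2 + 2 * k + 1) (2 * k) := by
  have h : 2 * k ^ 2 + 2 * k + 1 = 1 + (k + 1) * (2 * k) := by ring
  rw [h, Nat.coprime_add_mul_right_left]
  exact Nat.coprime_one_left _

theorem cop_b : Nat.Coprime (2 * k ^ 2 + 2 * k + 1) (2 * (k + 1)) := by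
  have h : 2 * k ^ 2 + 2 * k + 1 = 1 + k * (2 * (k + 1)) := by ring
  rw [h, Nat.coprime_add_mul_right_left]
  exact Nat.coprime_one_left _

theorem cop_two : Nat.Coprime (2 * k ^ 2 + 2 * k + 1) 2 := Nat.Coprime.coprime_dvd_right (Dvd.intro _ rfl) (cop_a (k := k))

theorem cop_q : Nat.Coprime (2 * k ^ 2 + 2 * k + 1) (2 * k + 1) := by
  -- `2 N = q² + 1`
  have h1 : Nat.Coprime (2 * (2 * k ^ 2 + 2 * k + 1)) (2 * k + 1) := by
    have h : 2 * (2 * k ^ 2 + 2 * k + 1) = 1 + (2 * k + 1) * (2 * k + 1) := by ring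
    rw [h, Nat.coprime_add_mul_right_left]
    exact Nat.coprime_one_left _
  exact Nat.Coprime.coprime_dvd_left (Dvd.intro_left 2 rfl) h1

theorem cop_three : Nat.Coprime (2 * k ^ 2 + 2 * k + 1) 3 := by
  rw [Nat.coprime_comm, Nat.Prime.coprime_iff_not_dvd Nat.prime_three]
  intro h
  have h1 : (2 * k ^ 2 + 2 * k + 1) % 3 = 0 := Nat.mod_eq_zero_of_dvd h
  have h2 : k % 3 = 0 ∨ k % 3 = 1 ∨ k % 3 = 2 := by omega
  rcases h2 with h2 | h2 | h2 <;>
    rw [Nat.add_mod, Nat.add_mod (2 * k ^ 2), Nat.mul_mod, Nat.pow_mod, h2, Nat.mul_mod 2 k, h2] at h1 <;>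
    norm_num at h1

/-- a divisor of `2 ^ a 3 ^ b 5 (q - 1)` -/
theorem le_five {a b : ℕ} (h : 2 * k ^ 2 + 2 * k + 1 ∣ 2 ^ a * 3 ^ b * 5 * (2 * k)) : k ≤ 1 := by
  have h1 := Nat.Coprime.dvd_of_dvd_mul_right cop_a h
  rw [mul_assoc] at h1
  have h2 := Nat.Coprime.dvd_of_dvd_mul_left (cop_two.pow_right a) h1
  have h3 := Nat.Coprime.dvd_of_dvd_mul_left (cop_three.pow_right b) h2
  have h4 := Nat.le_of_dvd (by norm_num) h3
  by_contra hk
  push Not at hk
  nlinarith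

end Arith

variable {F : Type u} [Field F] [Fintype F]

/-- the orders -/
theorem two_mul_eq {q k : ℕ} (h : q = 2 * k + 1) : q ^ 2 + 1 = 2 * (2 * k ^ 2 + 2 * k + 1) := by
  rw [h]; ring

theorem card_sp42 : Nat.card (Matrix.symplecticGroup (Fin 2) (ZMod 2)) = 720 := by
  have : Fact (Nat.Prime 2) := ⟨Nat.prime_two⟩
  have h := LieClassical.SympCount.card_symplecticGroup (F := ZMod 2) 2
  rw [h, ZMod.card]
  norm_num [Finset.prod_range_succ]

/-- no residual overgroup -/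
theorem no_residual (hodd : Odd (Fintype.card F)) (h5 : 5 ≤ Fintype.card F)
    {s : Matrix.symplecticGroup (Fin 2) F} (h : Sng F 2 s) {K : Subgroup (PSp 2 F)} (hK : IsCoatom K)
    (hsK : (QuotientGroup.mk s : PSp 2 F) ∈ K) : ¬ InSymplecticResidualClass (pre K) := by
  intro hS
  obtain ⟨k, hk⟩ := id hodd
  obtain ⟨P, p, hc, hp, hch, hcases⟩ := S5788.result hodd (pre K) (isMaximalIn_pre hK) hS
  have hd := ord_dvd (by norm_num) hsK hc
  rw [h.ord] at hd
  rcases hcases with ⟨⟨e⟩, -, -, -⟩ | ⟨⟨e⟩, h7⟩ | ⟨⟨e⟩, -, -⟩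
  · rw [Nat.card_congr (MulAut.congr e).toEquiv, H824.ProdLem.card_aut_a6, two_mul_eq hk] at hd
    have h1 := Nat.dvd_of_mul_dvd_mul_left two_pos hd
    have h2 := le_five (k := k) (a := 5) (b := 2) (by
      refine Dvd.dvd.mul_right ?_ _
      exact h1.trans (by norm_num))
    omega
  · rw [Nat.card_congr (MulAut.congr e).toEquiv,
      ← Nat.card_congr (Equiv.ofBijective _ (S2119.result 7 (by norm_num) (by norm_num))), Nat.card_perm,
      Nat.card_fin, h7] at hd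
    revert hd
    decide
  · obtain ⟨p', hch'⟩ := CharP.exists F
    obtain ⟨f, hp', hf⟩ := FiniteField.card F p'
    rw [Nat.card_congr (MulAut.congr e).toEquiv,
      H109.Cov.aut_psl (p := p') (f := f) hp' f.2 (by rw [Nat.card_eq_fintype_card, hf]) (by rw [← hf]; omega),
      two_mul_eq hk] at hd
    have h1 := Nat.dvd_of_mul_dvd_mul_left two_pos hd
    rw [← hf, hk] at h1
    have h2 : (2 * k + 1) ^ 2 - 1 = (2 * k) * (2 * (k + 1)) := by
      have : (2 * k + 1) ^ 2 = (2 * k) * (2 * (k + 1)) + 1 := by ring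
      omega
    rw [h2] at h1
    have h3 : 2 * k ^ 2 + 2 * k + 1 ∣ (f : ℕ) :=
      Nat.Coprime.dvd_of_dvd_mul_right (cop_q.mul_right (cop_a.mul_right cop_b)) h1
    have h4 := Nat.le_of_dvd f.pos h3
    have h5' : (f : ℕ) < p' ^ (f : ℕ) := Nat.lt_pow_self hp'.one_lt
    rw [← hf, hk] at h5'
    nlinarith

/-- **the overgroups** -/
theorem overgroup (hodd : Odd (Fintype.card F)) (h5 : 5 ≤ Fintype.card F)
    {s : Matrix.symplecticGroup (Fin 2) F} (h : Sng F 2 s) {K : Subgroup (PSp 2 F)} (hK : IsCoatom K)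
    (hsK : (QuotientGroup.mk s : PSp 2 F) ∈ K) :
    ∃ K₁ : Subalgebra F (Matrix (Fin 2 ⊕ Fin 2) (Fin 2 ⊕ Fin 2) F), IsFieldSubalgebra 2 K₁ ∧
      pre K = subalgebraNormalizer K₁ ⊓ spGL 2 F := by
  obtain ⟨k, hk⟩ := id hodd
  have hne : Nonempty (Fin 2 ⊕ Fin 2) := ⟨Sum.inl 0⟩
  have hι : Fintype.card (Fin 2 ⊕ Fin 2) = 4 := by simp
  have hfin : Finite (GL (Fin 2 ⊕ Fin 2) F) := inferInstance
  have hs : spToGL 2 F s ∈ pre K := mem_pre.2 hsK
  obtain ⟨p, f, u, hp, hf, hpF, hpu, hqu, hud⟩ := exists_prim F (a := 2) le_rfl (by omega)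
  have hsH : Fintype.card F ^ 2 + 1 ∣ Nat.card (pre K) := by
    have h1 : orderOf (spToGL 2 F s) ∣ Nat.card (pre K) := by
      rw [← Subgroup.orderOf_mk _ hs]
      exact orderOf_dvd_natCard _
    rwa [orderOf_injective _ spToGL_injective, h.ord] at h1
  have huH : u ∣ Nat.card (pre K) := hud.trans hsH
  have hlt := hqu.lt (by omega)
  rcases S5787.result hodd (pre K) (isMaximalIn_pre hK) with ⟨W, hW, hiso, hHW⟩ | ⟨D, hD, hHD⟩ |
    ⟨-, D, hD, -, hHD⟩ | ⟨K₁, hK₁, -, -, hHK⟩ | ⟨-, K₁, hK₁, -, -, hHK⟩ |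
    ⟨F₀, r, P, ζ, hr, hcard, -, -, hHF⟩ | ⟨p', R, hp', hFp, hR, habs, -, hR32, hZ, -, hHR⟩ | hres
  · exfalso
    rcases h.irr.2.2 W le_top (mem_stab ((hHW.le.trans inf_le_left) hs)) with h6 | h6
    · exact hW h6
    · exact totallySingular_ne_top (by omega) hiso h6
  · have h6 := H884.El.decomp_le hD.decomp (hHD.le.trans inf_le_left) hqu (by omega) huH
    omega
  · have h6 := H884.El.decomp_le hD (hHD.le.trans inf_le_left) hqu (by omega) huH
    omega
  · exact ⟨K₁, hK₁, hHK⟩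
  · exact ⟨K₁, hK₁, hHK⟩
  · exfalso
    exact H884.El.kill_subfield (hHF.le.trans inf_le_left) hr (by rw [Nat.card_eq_fintype_card]; exact hcard) hp hpF hpu
      (by rw [hι]; omega) (by omega) huH
  · exfalso
    obtain ⟨C⟩ := H708.O8.exists_coord_of (m := 2) habs hR (by norm_num) (by rw [hι]; norm_num) (Or.inr (Or.inr ⟨rfl, hZ, by
      rw [hR32]; norm_num⟩))
    have h6 := H708.O8.card_dvd_of_coord Nat.prime_two habs C (hHR.le.trans inf_le_left)
    rw [hR32, card_sp42, Nat.card_eq_fintype_card (α := F)] at h6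
    have h7 := hsH.trans h6
    rw [two_mul_eq hk, hk, Nat.add_sub_cancel] at h7
    have h8 := le_five (k := k) (a := 8) (b := 2) (by
      have h9 : 32 * (2 * k) * 720 = 2 * (2 ^ 8 * 3 ^ 2 * 5 * (2 * k)) := by ring
      rw [h9] at h7
      exact Nat.dvd_of_mul_dvd_mul_left two_pos h7)
    omega
  · exact absurd hres (no_residual hodd h5 h hK hsK)

theorem nonab (h3 : 3 ≤ Fintype.card F) : ∃ x y : PSp 2 F, x * y ≠ y * x := by
  have hs : IsSimpleGroup (PSp 2 F) := Cfsg.Agent.S0270.result 2 le_rfl (fun _ => by omega)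
  by_contra hcon
  push Not at hcon
  have h1 := Cfsg.Agent.H16.PSp4.spGL_perfect (m := 2) (F := F) (Or.inr (Or.inl ⟨rfl, h3⟩))
  have h2 : (commutator (spGL 2 F)).map (Cfsg.Agent.H16.PSp4.prj 2 F) = ⊥ := by
    rw [commutator_def, Subgroup.map_commutator, Subgroup.commutator_eq_bot_iff_le_centralizer]
    intro x _
    rw [Subgroup.mem_centralizer_iff]
    intro y _
    exact hcon y x
  rw [h1, Subgroup.map_top_of_surjective _ Cfsg.Agent.H16.PSp4.prj_surj] at h2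
  exact top_ne_bot h2

/-- **`Spr (PSp_4(q))`, `q` odd, `q ≥ 5`.** -/
theorem spr_psp4_ge_five (hodd : Odd (Fintype.card F)) (h5 : 5 ≤ Fintype.card F) : Spr (PSp 2 F) := by
  have hsim : IsSimpleGroup (PSp 2 F) := Cfsg.Agent.S0270.result 2 le_rfl (fun _ => by omega)
  have hfin2 : Finite (PSp 2 F) := Finite.of_surjective _ Cfsg.Agent.H16.PSp4.prj_surj
  obtain ⟨s, h⟩ := Sng.exists (F := F) (m := 2) (by norm_num)
  have huniq : ∀ K K' : Subgroup (PSp 2 F), IsCoatom K → IsCoatom K' → (QuotientGroup.mk s : PSp 2 F) ∈ K →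
      (QuotientGroup.mk s : PSp 2 F) ∈ K' → K ≤ K' := by
    intro K K' hK hK' hs hs'
    obtain ⟨K₁, h1, h2⟩ := overgroup hodd h5 h hK hs
    obtain ⟨K₂, h3, h4⟩ := overgroup hodd h5 h hK' hs'
    have h6 : K₁ = K₂ := h.unique le_rfl (by omega) Nat.prime_two (by norm_num) h1 h3
      ((h2.le.trans inf_le_left) (mem_pre.2 hs)) ((h4.le.trans inf_le_left) (mem_pre.2 hs'))
    subst h6
    intro x hx
    obtain ⟨A, rfl⟩ := QuotientGroup.mk_surjective x
    rw [← mem_pre, h2, ← h4, mem_pre] at hx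
    exact hx
  by_cases hex : ∃ K₀ : Subgroup (PSp 2 F), IsCoatom K₀ ∧ (QuotientGroup.mk s : PSp 2 F) ∈ K₀
  · obtain ⟨K₀, hK₀, hs₀⟩ := hex
    exact spr_of_single (nonab (by omega)) (s := (QuotientGroup.mk s : PSp 2 F)) hK₀.1
      fun K hs hK => huniq K K₀ hK hK₀ hs hs₀
  · exact spr_of_single (nonab (by omega)) (s := (QuotientGroup.mk s : PSp 2 F)) (M := ⊥) bot_ne_top
      fun K hs hK => absurd ⟨K, hK, hs⟩ hex

end Cfsg.Agent.H688.Sp4
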