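import Cfsg.Agent.H688.Sp4.Odd
import Cfsg.Agent.H833.Spr4.Two
import Cfsg.Agent.S0822
import Cfsg.Agent.S5785

/-!
# S3938: `PSp_4(q)`, `q` odd (helper688)
-/

set_option autoImplicit false

namespace Cfsg.Agent.H688.Sp4

open Cfsg Cfsg.Geo
open Cfsg.Agent.H424.Spr (Spr)

/-- the content of S5785 -/
theorem resList {F : Type} [Field F] [Fintype F] {q : ℕ} (hF : Fintype.card F = q ^ 2) :
    Cfsg.Agent.H833.Spr4.ResList F q := fun H hH hS => Cfsg.Agent.S5785.result q hF H hH hS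

/-- **`Spr (PSp_4(3))`** -/
theorem spr_psp4_three {F : Type} [Field F] [Fintype F] (h3 : Fintype.card F = 3) : Spr (PSp 2 F) := by
  have h4 : Fintype.card Cfsg.Agent.SporRec.GF4.F4 = 4 := by
    have := Cfsg.Agent.H833.Spr4.Two.hF
    rw [this]; norm_num
  obtain ⟨e⟩ := Cfsg.Agent.S0822.result (F := Cfsg.Agent.SporRec.GF4.F4) (K := F) h4 h3
  have h := Cfsg.Agent.H833.Spr4.Two.spr_two (F := Cfsg.Agent.SporRec.GF4.F4) (by rw [h4]; norm_num) (resList (by rw [h4]; norm_num))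
  exact h.congr e

/-- **`Spr (PSp_4(q))`, `q` odd.** -/
theorem spr_psp4_odd {F : Type} [Field F] [Fintype F] (hodd : Odd (Fintype.card F)) : Spr (PSp 2 F) := by
  rcases Nat.lt_or_ge (Fintype.card F) 5 with h | h
  · have h1 : 1 < Fintype.card F := Fintype.one_lt_card
    have h3 : Fintype.card F = 3 := by
      obtain ⟨k, hk⟩ := hodd
      omega
    exact spr_psp4_three h3
  · exact spr_psp4_ge_five hodd h

end Cfsg.Agent.H688.Sp4
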