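import Cfsg.Agent.H688.Sp4.Odd
import Cfsg.Agent.S5791
import Cfsg.Agent.S2238
import Cfsg.Agent.S2126

/-!
# S3938: `PSp_4(q)`, `q ≥ 4` even (helper688)

The Singer cycle of order `q ^ 2 + 1` is in no overgroup with core `Sz(q)`; with `H427.Sg.spr_singer` this gives the row.
-/

set_option autoImplicit false
set_option linter.unusedSectionVars false

namespace Cfsg.Agent.H688.Sp4

open Module Cfsg Cfsg.Geo Cfsg.Agent.H951 Cfsg.Agent.H427.Fc Cfsg.Agent.H424.Spr Cfsg.Agent.H427.Sg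
open Cfsg.Agent.ClassicalGeometry.SympBasic Cfsg.Agent.H876 Cfsg.Agent.H931 Cfsg.Agent.H262.El
open Cfsg.Agent.H884.El (PP exists_char one_lt_q)
open Cfsg.Agent.H753 (conjNormal_injective)
open scoped Matrix MatrixGroups Pointwise

universe u

/-- the automorphism of the core induced by an element -/
theorem exists_aut {F : Type u} [Field F] [Finite F] {m : ℕ} (hm : 1 ≤ m) {H P : Subgroup (GL (Fin m ⊕ Fin m) F)}
    (hle : H ≤ spGL m F) (hc : IsResidualCore H P) {s : GL (Fin m ⊕ Fin m) F} (hs : s ∈ H) :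
    ∃ α : MulAut (P ⧸ (scalars (Fin m ⊕ Fin m) F).subgroupOf P), orderOf α ∣ orderOf s ∧ orderOf s ∣ 2 * orderOf α := by
  classical
  set Z : Subgroup H := (scalars (Fin m ⊕ Fin m) F).subgroupOf H with hZ
  have hZn : Z.Normal := inferInstance
  have hPn : (P.subgroupOf H).Normal := ⟨fun x hx g => hc.normal g g.2 x hx⟩
  set T : Subgroup (H ⧸ Z) := (P.subgroupOf H).map (QuotientGroup.mk' Z) with hT
  have hTn : T.Normal := hPn.map _ (QuotientGroup.mk'_surjective Z)
  have hcent : Subgroup.centralizer (T : Set (H ⧸ Z)) = ⊥ := by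
    rw [eq_bot_iff]
    intro g hg
    obtain ⟨h, rfl⟩ := QuotientGroup.mk_surjective g
    rw [Subgroup.mem_bot]
    apply (QuotientGroup.eq_one_iff _).2
    refine hc.centralizer_scalar h h.2 ?_
    intro x hx
    obtain ⟨x', hx'⟩ : ∃ x' : H, (x' : GL (Fin m ⊕ Fin m) F) = x := ⟨⟨x, hc.le hx⟩, rfl⟩
    have h1 := Subgroup.mem_centralizer_iff.1 hg (QuotientGroup.mk' Z x')
      ⟨x', by rw [SetLike.mem_coe, Subgroup.mem_subgroupOf, hx']; exact hx, rfl⟩
    have h2 : QuotientGroup.mk' Z (h * x' * h⁻¹ * x'⁻¹) = 1 := by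
      rw [map_mul, map_mul, map_mul, map_inv, map_inv]
      change (h : H ⧸ Z) * _ * (h : H ⧸ Z)⁻¹ * _ = 1
      rw [← h1]
      group
    rw [QuotientGroup.mk'_apply, QuotientGroup.eq_one_iff, hZ, Subgroup.mem_subgroupOf] at h2
    rw [← hx']
    simpa only [Subgroup.coe_mul, Subgroup.coe_inv] using h2
  obtain ⟨f, hfx⟩ : ∃ f : P →* T, ∀ x : P, (f x : H ⧸ Z) = QuotientGroup.mk' Z ⟨x, hc.le x.2⟩ :=
    ⟨{ toFun := fun x => ⟨QuotientGroup.mk' Z ⟨x, hc.le x.2⟩, ⟨⟨x, hc.le x.2⟩, x.2, rfl⟩⟩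
       map_one' := Subtype.ext rfl
       map_mul' := fun x y => Subtype.ext rfl }, fun x => rfl⟩
  have hf : Function.Surjective f := by
    rintro ⟨_, ⟨x, hx, rfl⟩⟩
    exact ⟨⟨x, hx⟩, Subtype.ext (hfx _)⟩
  have hker : f.ker = (scalars (Fin m ⊕ Fin m) F).subgroupOf P := by
    ext x
    rw [MonoidHom.mem_ker, Subgroup.mem_subgroupOf, ← Subtype.coe_inj, hfx, QuotientGroup.mk'_apply,
      Subgroup.coe_one, QuotientGroup.eq_one_iff, hZ, Subgroup.mem_subgroupOf]
  have e : T ≃* P ⧸ (scalars (Fin m ⊕ Fin m) F).subgroupOf P :=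
    (QuotientGroup.quotientKerEquivOfSurjective f hf).symm.trans (QuotientGroup.quotientMulEquivOfEq hker)
  let s' : H := ⟨s, hs⟩
  have hos : orderOf s' = orderOf s := Subgroup.orderOf_mk s hs
  refine ⟨MulAut.congr e (MulAut.conjNormal (H := T) (QuotientGroup.mk' Z s')), ?_, ?_⟩
  · rw [← hos]
    refine (dvd_of_eq (orderOf_injective (MulAut.congr e).toMonoidHom (MulAut.congr e).injective
      (MulAut.conjNormal (H := T) (QuotientGroup.mk' Z s')))).trans ?_
    exact (orderOf_map_dvd _ _).trans (orderOf_map_dvd _ _)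
  · have h1 : orderOf (MulAut.congr e (MulAut.conjNormal (H := T) (QuotientGroup.mk' Z s'))) =
        orderOf (QuotientGroup.mk' Z s') := by
      have h2 := orderOf_injective (MulAut.congr e).toMonoidHom (MulAut.congr e).injective
        (MulAut.conjNormal (H := T) (QuotientGroup.mk' Z s'))
      refine Eq.trans h2 ?_
      exact orderOf_injective (MulAut.conjNormal (H := T)) (conjNormal_injective T hcent) _
    rw [h1, ← hos]
    apply orderOf_dvd_of_pow_eq_one
    have h3 : QuotientGroup.mk' Z (s' ^ orderOf (QuotientGroup.mk' Z s')) = 1 := by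
      rw [map_pow, pow_orderOf_eq_one]
    have h4 : s' ^ orderOf (QuotientGroup.mk' Z s') ∈ Z := (QuotientGroup.eq_one_iff _).1 h3
    rw [mul_comm, pow_mul]
    apply Subtype.ext
    rcases H914.S6.scalar_cases hm (hle (s' ^ orderOf (QuotientGroup.mk' Z s')).2)
      (Subgroup.mem_subgroupOf.1 h4) with h | h
    · rw [Subgroup.coe_pow, h, one_pow, Subgroup.coe_one]
    · rw [Subgroup.coe_pow, h, neg_one_sq, Subgroup.coe_one]

/-- automorphisms and the outer automorphism group -/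
theorem exists_inner {T : Type*} [Group T] (hZ : Subgroup.center T = ⊥) [Finite (Out T)] (α : MulAut T) :
    ∃ t : T, orderOf t ∣ orderOf α ∧ orderOf α ∣ Nat.card (Out T) * orderOf t := by
  have h1 : α ^ Nat.card (Out T) ∈ Inn T := by
    rw [← QuotientGroup.eq_one_iff]
    change ((α : Out T)) ^ Nat.card (Out T) = 1
    exact pow_card_eq_one'
  obtain ⟨t, ht⟩ := h1
  have h2 : orderOf t = orderOf (α ^ Nat.card (Out T)) := by
    rw [← ht]
    refine (orderOf_injective MulAut.conj ?_ t).symm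
    rw [← MonoidHom.ker_eq_bot_iff, eq_bot_iff]
    intro x hx
    have h3 : x ∈ Subgroup.center T := by
      rw [Subgroup.mem_center_iff]
      intro g
      have h4 : MulAut.conj x g = g := by
        have : MulAut.conj x = 1 := hx
        rw [this]; rfl
      rw [MulAut.conj_apply] at h4
      calc g * x = (x * g * x⁻¹) * x := by rw [h4]
        _ = x * g := by group
    rw [hZ] at h3
    exact h3
  refine ⟨t, ?_, ?_⟩
  · rw [h2]
    exact orderOf_pow_dvd _
  · apply orderOf_dvd_of_pow_eq_one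
    rw [pow_mul, h2, pow_orderOf_eq_one]

/-- elements of odd order of `Sz(q)` -/
theorem odd_order_le {F : Type u} [Field F] [Fintype F] {m : ℕ} (hm : 1 ≤ m) (hF : Fintype.card F = 2 ^ (2 * m + 1))
    {x : ↥(Cfsg.Sz F m)} (hx : Odd (orderOf x)) : orderOf x ≤ 2 ^ (2 * m + 1) + 2 ^ (m + 1) + 1 := by
  have hfin : Finite (Cfsg.Sz F m) := inferInstance
  by_cases h1 : x = 1
  · rw [h1, orderOf_one]
    exact Nat.le_add_left _ _
  obtain ⟨U, ⟨hU, hxU⟩, -⟩ := Cfsg.Agent.S2238.result hm hF x h1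
  rcases hU with ⟨P, rfl⟩ | ⟨-, hN⟩
  · exfalso
    obtain ⟨k, hk⟩ := P.isPGroup' ⟨x, hxU⟩
    have h3 : x ^ 2 ^ k = 1 := congrArg Subtype.val hk
    have h4 := orderOf_dvd_of_pow_eq_one h3
    have h5 : Nat.Coprime (orderOf x) (2 ^ k) := Nat.Coprime.pow_right k (Nat.coprime_two_right.2 hx)
    exact h1 (orderOf_eq_one_iff.1 (Nat.Coprime.eq_one_of_dvd h5 h4))
  · have h5 : orderOf x ∣ Nat.card U := by
      rw [← Subgroup.orderOf_mk x hxU]
      exact orderOf_dvd_natCard _
    have h6 : orderOf x ≤ Nat.card U := Nat.le_of_dvd Nat.card_pos h5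
    generalize 2 ^ (2 * m + 1) = q at *
    generalize 2 ^ (m + 1) = r at *
    rcases hN with hN | hN | hN
    · have hN : Nat.card U = q - 1 := hN
      omega
    · have hN : Nat.card U = q + r + 1 := hN
      omega
    · have hN : Nat.card U = q - r + 1 := hN
      omega

theorem arith_sz {m : ℕ} (hm : 1 ≤ m) :
    (2 * m + 1) * (2 ^ (2 * m + 1) + 2 ^ (m + 1) + 1) < (2 ^ (2 * m + 1)) ^ 2 + 1 := by
  obtain ⟨r, hr⟩ : ∃ r, r = 2 ^ m := ⟨_, rfl⟩
  have h1 : m < r := by rw [hr]; exact Nat.lt_two_pow_self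
  have h2 : 2 ≤ r := by omega
  have h3 : 2 ^ (2 * m + 1) = 2 * (r * r) := by
    rw [hr, pow_succ, mul_comm 2 m, pow_mul]; ring
  have h4 : 2 ^ (m + 1) = 2 * r := by rw [hr, pow_succ]; ring
  rw [h3, h4]
  have h5 : (2 * (r * r)) ^ 2 + 1 = (2 * (r * (r - 1)) + 1) * (2 * (r * r) + 2 * r + 1) := by
    obtain ⟨y, rfl⟩ : ∃ y, r = y + 1 := ⟨r - 1, by omega⟩
    rw [Nat.add_sub_cancel]
    ring
  rw [h5]
  apply Nat.mul_lt_mul_of_pos_right _ (by positivity)
  have h6 : r * 1 ≤ r * (r - 1) := Nat.mul_le_mul_left r (by omega)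
  omega

variable {F : Type u} [Field F] [Fintype F]

/-- no residual overgroup -/
theorem no_residual_even (heven : ¬ Odd (Fintype.card F)) (h4 : 4 ≤ Fintype.card F)
    {s : Matrix.symplecticGroup (Fin 2) F} (h : Sng F 2 s) {K : Subgroup (PSp 2 F)} (hK : IsCoatom K)
    (hsK : (QuotientGroup.mk s : PSp 2 F) ∈ K) : ¬ InSymplecticResidualClass (pre K) := by
  intro hS
  have hfin : Finite (GL (Fin 2 ⊕ Fin 2) F) := inferInstance
  obtain ⟨P, m, hc, hm, hF, ⟨e⟩⟩ := S5791.result heven h4 (pre K) (isMaximalIn_pre hK) hS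
  obtain ⟨f⟩ := Cfsg.Agent.OddCyclic.ClaimC.SzIso.iso hm hF
  have hs : spToGL 2 F s ∈ pre K := mem_pre.2 hsK
  have hos : orderOf (spToGL 2 F s) = Fintype.card F ^ 2 + 1 := by
    rw [orderOf_injective _ spToGL_injective, h.ord]
  have hsodd : Odd (orderOf (spToGL 2 F s)) := by
    rw [hos]
    exact ((Nat.not_odd_iff_even.1 heven).pow_of_ne_zero (by norm_num)).add_odd odd_one
  obtain ⟨α, hα1, hα2⟩ := exists_aut (by norm_num) (pre_le K) hc hs
  have hα3 : orderOf (spToGL 2 F s) ∣ orderOf α :=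
    Nat.Coprime.dvd_of_dvd_mul_left (Nat.coprime_two_right.2 hsodd) hα2
  -- transport to `Sz`
  let β : MulAut (Lie.Sz F (2 ^ (m + 1))) := MulAut.congr e α
  have hβ : orderOf β = orderOf α := orderOf_injective (MulAut.congr e).toMonoidHom (MulAut.congr e).injective α
  have hsimp := hc.simple
  have hna := hc.nonabelian
  have hfinP : Finite (P ⧸ (scalars (Fin 2 ⊕ Fin 2) F).subgroupOf P) := inferInstance
  have hfinS : Finite (Lie.Sz F (2 ^ (m + 1))) := Finite.of_equiv _ e.toEquiv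
  have hsimp' : IsSimpleGroup (Lie.Sz F (2 ^ (m + 1))) := e.symm.isSimpleGroup
  have hZ : Subgroup.center (Lie.Sz F (2 ^ (m + 1))) = ⊥ := by
    rcases (inferInstance : (Subgroup.center (Lie.Sz F (2 ^ (m + 1)))).Normal).eq_bot_or_eq_top with h1 | h1
    · exact h1
    · exfalso
      apply hna
      refine ⟨⟨fun a b => ?_⟩⟩
      apply e.injective
      rw [map_mul, map_mul]
      have h2 : e a ∈ Subgroup.center (Lie.Sz F (2 ^ (m + 1))) := by rw [h1]; trivial
      exact (Subgroup.mem_center_iff.1 h2 (e b)).symm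
  have hout := Cfsg.Agent.S2126.result hm hF
  have hfinO : Finite (Out (Lie.Sz F (2 ^ (m + 1)))) := Nat.finite_of_card_ne_zero (by rw [hout]; omega)
  obtain ⟨t, ht1, ht2⟩ := exists_inner hZ β
  rw [hout, hβ] at ht2
  rw [hβ] at ht1
  have htodd : Odd (orderOf t) := Odd.of_dvd_nat hsodd (ht1.trans hα1)
  have h5 : orderOf (f.symm t) = orderOf t := orderOf_injective f.symm.toMonoidHom f.symm.injective t
  have h6 := odd_order_le hm hF (x := f.symm t) (by rw [h5]; exact htodd)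
  rw [h5] at h6
  have h7 := Nat.le_of_dvd (Nat.mul_pos (by omega) (Nat.pos_of_ne_zero (by rintro h0; rw [h0] at htodd; exact absurd htodd (by decide))))
    (hα3.trans ht2)
  rw [hos, hF] at h7
  have h8 := arith_sz hm
  have h9 := Nat.mul_le_mul_left (2 * m + 1) h6
  omega

/-- **`Spr (PSp_4(q))`, `q ≥ 4` even.** -/
theorem spr_psp4_even (heven : ¬ Odd (Fintype.card F)) (h4 : 4 ≤ Fintype.card F) : Spr (PSp 2 F) := by
  have hsim : IsSimpleGroup (PSp 2 F) := Cfsg.Agent.S0270.result 2 le_rfl (fun _ => by omega)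
  obtain ⟨s, h⟩ := Sng.exists (F := F) (m := 2) (by norm_num)
  exact spr_singer (nonab (by omega)) le_rfl (by omega) (by omega) heven Nat.prime_two dvd_rfl
    (fun r hr hrd => (Nat.prime_dvd_prime_iff_eq hr Nat.prime_two).1 hrd) h
    fun K hK hsK => no_residual_even heven h4 h hK hsK

end Cfsg.Agent.H688.Sp4
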