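import Cfsg.Agent.H688.Sp4.OddAll
import Cfsg.Agent.H688.Sp4.Even

/-!
# S3938: `PSp_4(q)`, `q ≥ 3` (helper688)
-/

set_option autoImplicit false

namespace Cfsg.Agent.H688.Sp4

open Cfsg
open Cfsg.Agent.H424.Spr (Spr)

/-- **`Spr (PSp_4(q))`, `q ≥ 3`.** -/
theorem spr_psp4 {F : Type} [Field F] [Fintype F] (h3 : 3 ≤ Fintype.card F) : Spr (PSp 2 F) := by
  by_cases hodd : Odd (Fintype.card F)
  · exact spr_psp4_odd hodd
  · refine spr_psp4_even hodd ?_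
    rw [Nat.not_odd_iff_even] at hodd
    obtain ⟨k, hk⟩ := hodd
    omega

end Cfsg.Agent.H688.Sp4
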